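import Mathlib

open TensorProduct

namespace Groth.Agent.H5.ExtAnn

universe u

section basis
variable {R : Type u} [CommRing R] (M : Type u) [AddCommGroup M] [Module R M] [Module.Finite R M]
  (K : Type u) [Field K] [Algebra R K]

lemma span_one_tmul : Submodule.span K (Set.range fun m : M => (1 : K) ⊗ₜ[R] m) = ⊤ := by
  rw [eq_top_iff]
  rintro y -
  induction y using TensorProduct.induction_on with
  | zero => exact zero_mem _
  | tmul a m =>
    have : a ⊗ₜ[R] m = a • ((1 : K) ⊗ₜ[R] m) := by
      rw [TensorProduct.smul_tmul', smul_eq_mul, mul_one]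
    rw [this]
    exact Submodule.smul_mem _ _ (Submodule.subset_span ⟨m, rfl⟩)
  | add x y hx hy => exact add_mem hx hy

/-- a basis of the fibre consisting of pure tensors. -/
lemma exists_basis_pure : ∃ (d : ℕ) (e : Fin d → M), d = Module.finrank K (K ⊗[R] M) ∧
    LinearIndependent K (fun j => (1 : K) ⊗ₜ[R] e j) ∧
    Submodule.span K (Set.range fun j => (1 : K) ⊗ₜ[R] e j) = ⊤ := by
  obtain ⟨b, hbs, hspan, hli⟩ := exists_linearIndependent K
    (Set.range fun m : M => (1 : K) ⊗ₜ[R] m)
  rw [span_one_tmul] at hspan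
  haveI : Finite b := hli.setFinite
  haveI : Fintype b := Fintype.ofFinite b
  let bas : Module.Basis b K (K ⊗[R] M) := Module.Basis.mk hli (by rw [Subtype.range_val, hspan])
  have hcard : Module.finrank K (K ⊗[R] M) = Fintype.card b := Module.finrank_eq_card_basis bas
  let eqv : Fin (Fintype.card b) ≃ b := (Fintype.equivFin b).symm
  have hch : ∀ j, ∃ m : M, (1 : K) ⊗ₜ[R] m = (eqv j : K ⊗[R] M) := fun j => hbs (eqv j).2
  choose e he using hch
  refine ⟨Fintype.card b, e, hcard.symm, ?_, ?_⟩
  · have : (fun j => (1 : K) ⊗ₜ[R] e j) = (Subtype.val : b → K ⊗[R] M) ∘ eqv := by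
      ext j; exact he j
    rw [this]
    exact hli.comp _ eqv.injective
  · have : (Set.range fun j => (1 : K) ⊗ₜ[R] e j) = b := by
      ext y
      constructor
      · rintro ⟨j, rfl⟩
        show (1 : K) ⊗ₜ[R] e j ∈ b
        rw [he j]; exact (eqv j).2
      · intro hy
        exact ⟨eqv.symm ⟨y, hy⟩, by
          show (1 : K) ⊗ₜ[R] e (eqv.symm ⟨y, hy⟩) = y
          rw [he]; simp⟩
    rw [this, hspan]

end basis

section det
variable {R : Type u} [CommRing R] {M : Type u} [AddCommGroup M] [Module R M]
  {K : Type u} [Field K] [Algebra R K] (n : ℕ)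

/-- the determinant as an `R`-alternating map on `Fin n → K`. -/
noncomputable def detR : (Fin n → K) [⋀^Fin n]→ₗ[R] K :=
  { (Matrix.detRowAlternating (n := Fin n) (R := K)).toMultilinearMap.restrictScalars R with
    map_eq_zero_of_eq' := fun v i j h hij =>
      (Matrix.detRowAlternating (n := Fin n) (R := K)).map_eq_zero_of_eq v h hij }

lemma detR_apply (v : Fin n → Fin n → K) : detR (R := R) n v = Matrix.det (Matrix.of v) := rfl

end det

end Groth.Agent.H5.ExtAnn
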