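import Mathlib
import Groth.Agent.Lib.Helper5.ExtAnn.A

open TensorProduct

namespace Groth.Agent.H5.ExtAnn

universe u

variable {R : Type u} [CommRing R] (M : Type u) [AddCommGroup M] [Module R M] [Module.Finite R M]

/-- if the fibre has dimension `≥ n`, the annihilator of `⋀ⁿ M` dies in `K`. -/
theorem algebraMap_eq_zero_of_mem_annihilator (K : Type u) [Field K] [Algebra R K] (n : ℕ)
    (hn : n ≤ Module.finrank K (K ⊗[R] M)) (r : R) (hr : r ∈ (⋀[R]^n M).annihilator) :
    algebraMap R K r = 0 := by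
  obtain ⟨d, e, hd, hli, hspan⟩ := exists_basis_pure (R := R) M K
  have hnd : n ≤ d := hd ▸ hn
  let bas : Module.Basis (Fin d) K (K ⊗[R] M) := Module.Basis.mk hli (by rw [hspan])
  have hbas : ∀ j, bas j = (1 : K) ⊗ₜ[R] e j := fun j => by simp [bas]
  let Λ : M →ₗ[R] (Fin n → K) := LinearMap.pi (fun i =>
    ((bas.coord (Fin.castLE hnd i)).restrictScalars R) ∘ₗ (TensorProduct.mk R K M 1))
  let f : M [⋀^Fin n]→ₗ[R] K := (detR (R := R) n).compLinearMap Λ
  let L : ⋀[R]^n M →ₗ[R] K := exteriorPower.alternatingMapLinearEquiv f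
  let m : Fin n → M := fun i => e (Fin.castLE hnd i)
  have hf : f m = 1 := by
    show detR (R := R) n (fun i => Λ (m i)) = 1
    rw [detR_apply]
    have : Matrix.of (fun i => Λ (m i)) = (1 : Matrix (Fin n) (Fin n) K) := by
      ext i j
      show bas.coord (Fin.castLE hnd j) ((1 : K) ⊗ₜ[R] e (Fin.castLE hnd i)) = _
      rw [← hbas, Module.Basis.coord_apply, Module.Basis.repr_self, Matrix.one_apply,
        Finsupp.single_apply]
      simp only [(Fin.castLE_injective hnd).eq_iff]
    rw [this, Matrix.det_one]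
  have h0 : r • exteriorPower.ιMulti R n m = 0 := by
    apply Subtype.ext
    rw [Submodule.mem_annihilator] at hr
    exact hr _ (exteriorPower.ιMulti R n m).2
  have h1 : L (r • exteriorPower.ιMulti R n m) = 0 := by rw [h0, map_zero]
  rw [map_smul, exteriorPower.alternatingMapLinearEquiv_apply_ιMulti, hf, Algebra.smul_def,
    mul_one] at h1
  exact h1

end Groth.Agent.H5.ExtAnn
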