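import Mathlib
import Groth.Agent.Lib.Helper5.ExtAnn.B

open TensorProduct

namespace Groth.Agent.H5.ExtAnn

universe u

variable {R : Type u} [CommRing R] (M : Type u) [AddCommGroup M] [Module R M] [Module.Finite R M]

/-- `⋀ⁿ N = 0` if `N` is spanned by fewer than `n` elements. -/
lemma subsingleton_exteriorPower_of_span {N : Type*} [AddCommGroup N] [Module R N] {d n : ℕ}
    (hdn : d < n) (v : Fin d → N) (hv : Submodule.span R (Set.range v) = ⊤) :
    Subsingleton (⋀[R]^n N) := by
  have h := exteriorPower.ιMulti_family_span_of_span R (n := n) hv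
  haveI : IsEmpty (Set.powersetCard (Fin d) n) := by
    constructor
    rintro ⟨s, hs⟩
    have hs' : s.card = n := hs
    have := Finset.card_le_univ s
    rw [Fintype.card_fin] at this
    omega
  rw [Set.range_eq_empty, Submodule.span_empty] at h
  exact (Submodule.subsingleton_iff R).mp (subsingleton_of_bot_eq_top h)

variable (p : PrimeSpectrum R)

/-- Nakayama: lifts of a spanning family of the fibre generate `M` at `p`. -/
lemma exists_smul_mem_span {d : ℕ} (e : Fin d → M)
    (hspan : Submodule.span p.asIdeal.ResidueField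
      (Set.range fun j => (1 : p.asIdeal.ResidueField) ⊗ₜ[R] e j) = ⊤) (ω : M) :
    ∃ s ∉ p.asIdeal, s • ω ∈ Submodule.span R (Set.range e) := by
  set N := Submodule.span R (Set.range e) with hN
  have hsub : Subsingleton (p.asIdeal.ResidueField ⊗[R] (M ⧸ N)) := by
    have h1 : ∀ y : p.asIdeal.ResidueField ⊗[R] M,
        (N.mkQ.baseChange p.asIdeal.ResidueField) y = 0 := by
      intro y
      have hy : y ∈ Submodule.span p.asIdeal.ResidueField
        (Set.range fun j => (1 : p.asIdeal.ResidueField) ⊗ₜ[R] e j) := hspan ▸ Submodule.mem_top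
      induction hy using Submodule.span_induction with
      | mem z hz =>
        obtain ⟨j, rfl⟩ := hz
        rw [LinearMap.baseChange_tmul]
        have : N.mkQ (e j) = 0 := by
          rw [Submodule.mkQ_apply, Submodule.Quotient.mk_eq_zero]
          exact Submodule.subset_span ⟨j, rfl⟩
        rw [this, tmul_zero]
      | zero => rw [map_zero]
      | add a b _ _ ha hb => rw [map_add, ha, hb, add_zero]
      | smul c a _ ha => rw [map_smul, ha, smul_zero]
    have hsurj : Function.Surjective (N.mkQ.baseChange p.asIdeal.ResidueField) := by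
      rw [LinearMap.baseChange_eq_ltensor]
      exact LinearMap.lTensor_surjective _ N.mkQ_surjective
    refine ⟨fun a b => ?_⟩
    obtain ⟨a', rfl⟩ := hsurj a
    obtain ⟨b', rfl⟩ := hsurj b
    rw [h1, h1]
  have hns : p ∉ Module.support R (M ⧸ N) := by
    rw [Module.mem_support_iff_nontrivial_residueField_tensorProduct]
    exact not_nontrivial _
  rw [Module.notMem_support_iff'] at hns
  obtain ⟨s, hs, h0⟩ := hns (N.mkQ ω)
  refine ⟨s, hs, ?_⟩
  rw [← map_smul, Submodule.mkQ_apply, Submodule.Quotient.mk_eq_zero] at h0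
  exact h0

/-- if the fibre has dimension `< n` then `⋀ⁿ M` vanishes at `p`. -/
theorem exists_smul_eq_zero (n : ℕ)
    (hn : Module.finrank p.asIdeal.ResidueField (p.asIdeal.ResidueField ⊗[R] M) < n)
    (x : ⋀[R]^n M) : ∃ s ∉ p.asIdeal, s • x = 0 := by
  obtain ⟨d, e, hd, -, hspan⟩ := exists_basis_pure (R := R) M p.asIdeal.ResidueField
  have hdn : d < n := hd ▸ hn
  set N := Submodule.span R (Set.range e) with hN
  haveI : Subsingleton (⋀[R]^n N) :=
    subsingleton_exteriorPower_of_span hdn (fun j => (⟨e j, Submodule.subset_span ⟨j, rfl⟩⟩ : N))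
      (by
        rw [eq_top_iff]
        rintro ⟨y, hy⟩ -
        induction hy using Submodule.span_induction with
        | mem z hz =>
          obtain ⟨j, rfl⟩ := hz
          exact Submodule.subset_span ⟨j, rfl⟩
        | zero => exact zero_mem _
        | add a b ha hb iha ihb =>
          have : (⟨a + b, Submodule.add_mem _ ha hb⟩ : N) = ⟨a, ha⟩ + ⟨b, hb⟩ := rfl
          rw [this]; exact add_mem iha ihb
        | smul c a ha iha =>
          have : (⟨c • a, Submodule.smul_mem _ c ha⟩ : N) = c • ⟨a, ha⟩ := rfl
          rw [this]; exact Submodule.smul_mem _ _ iha)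
  have hx : x ∈ Submodule.span R (Set.range (exteriorPower.ιMulti R n (M := M))) := by
    rw [exteriorPower.ιMulti_span]; exact Submodule.mem_top
  induction hx using Submodule.span_induction with
  | mem z hz =>
    obtain ⟨ω, rfl⟩ := hz
    have hch : ∀ i, ∃ s ∉ p.asIdeal, s • ω i ∈ N := fun i => exists_smul_mem_span M p e hspan (ω i)
    choose s hs hsω using hch
    let S : R := ∏ i, s i
    have hS : S ∉ p.asIdeal := by
      intro h
      obtain ⟨i, -, hi⟩ := (Ideal.IsPrime.prod_mem_iff).mp h
      exact hs i hi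
    have hSω : ∀ i, S • ω i ∈ N := by
      intro i
      have : S = (∏ j ∈ Finset.univ.erase i, s j) * s i := by
        rw [Finset.prod_erase_mul _ _ (Finset.mem_univ i)]
      rw [this, mul_smul]
      exact Submodule.smul_mem _ _ (hsω i)
    refine ⟨S ^ n, fun h => hS (p.2.mem_of_pow_mem n h), ?_⟩
    have h1 : S ^ n • exteriorPower.ιMulti R n ω = exteriorPower.ιMulti R n (fun i => S • ω i) := by
      have := (exteriorPower.ιMulti R n (M := M)).map_smul_univ (fun _ => S) ω
      rw [this]
      simp
    rw [h1]
    have h2 : exteriorPower.ιMulti R n (fun i => S • ω i) =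
        exteriorPower.map n N.subtype (exteriorPower.ιMulti R n (fun i => (⟨S • ω i, hSω i⟩ : N))) := by
      rw [exteriorPower.map_apply_ιMulti]
      rfl
    rw [h2, Subsingleton.elim (exteriorPower.ιMulti R n fun i => (⟨S • ω i, hSω i⟩ : N)) 0, map_zero]
  | zero => exact ⟨1, fun h => p.2.ne_top ((Ideal.eq_top_iff_one _).mpr h), smul_zero _⟩
  | add a b _ _ ha hb =>
    obtain ⟨s, hs, h1⟩ := ha
    obtain ⟨t, ht, h2⟩ := hb
    refine ⟨s * t, fun h => (p.2.mem_or_mem h).elim hs ht, ?_⟩
    rw [smul_add, mul_smul, smul_comm, h1, smul_zero, mul_smul, h2, smul_zero, add_zero]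
  | smul c a _ ha =>
    obtain ⟨s, hs, h1⟩ := ha
    exact ⟨s, hs, by rw [smul_comm, h1, smul_zero]⟩

/-- **the annihilator of `⋀ⁿ M` and the fibre dimension.** -/
theorem annihilator_le_iff (n : ℕ) :
    (⋀[R]^n M).annihilator ≤ p.asIdeal ↔
      n ≤ Module.finrank p.asIdeal.ResidueField (p.asIdeal.ResidueField ⊗[R] M) := by
  constructor
  · intro h
    by_contra hlt
    rw [not_le] at hlt
    have hns : p ∉ Module.support R (⋀[R]^n M) := by
      rw [Module.notMem_support_iff']
      exact exists_smul_eq_zero M p n hlt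
    rw [Module.mem_support_iff_of_finite] at hns
    exact hns h
  · intro h r hr
    have := algebraMap_eq_zero_of_mem_annihilator M p.asIdeal.ResidueField n h r hr
    rwa [Ideal.algebraMap_residueField_eq_zero] at this

end Groth.Agent.H5.ExtAnn
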